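import Groth.Agent.LinSer.Rational

/-!
# Limit linear series on chains
-/

open WithZero Module

namespace Groth.Agent.LinSer

open FunFld Groth.Agent.FFLib

variable {k K : Type*} [Field k] [Field K] [Algebra k K]
variable {d r : ℕ} {D : Divisor k K} {V : Submodule k K}

/-- At most one complementary pair at two places away from a cusp of a rational component. -/
lemma tight_subsingleton [IsAlgClosed k] [CharZero k] (hK : IsFunctionField k K)
    (hg : genus k K = 0) (hD : D.deg = d) (hV : V ≤ L D) (hVr : finrank k ↥V = r + 1)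
    {Q P P' : Place k K} (hcusp : r ≤ dimV D V Q 2) (hP : P ≠ Q) (hP' : P' ≠ Q) (hPP : P ≠ P')
    (o : Orders d r D V P) (o' : Orders d r D V P') (i j : Fin (r + 1))
    (hi : o.m i + o'.m i.rev = d) (hj : o.m j + o'.m j.rev = d) : i = j := by
  obtain ⟨f, hf, hf0, hfo, hfs⟩ := exists_mem_of_tight hK (deg_eq_one hK P) (deg_eq_one hK P') hPP
    hD hV hVr o o' i hi
  obtain ⟨g, hg', hg0, hgo, hgs⟩ := exists_mem_of_tight hK (deg_eq_one hK P) (deg_eq_one hK P') hPP
    hD hV hVr o o' j hj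
  obtain ⟨c, hc⟩ := eq_smul_of_cusp hK hg hD hV hVr hcusp hP hP' hf hg' hf0 hg0 hfs hgs
  have hc0 : c ≠ 0 := fun e => hg0 (by rw [hc, e, zero_smul])
  have hgf : P.ord g = P.ord f := by rw [hc, Place.ord, Place.ord, v_smul P hc0]
  apply o.strictMono.injective
  omega

/-- Two principal-equivalent multiples from two complementary pairs. -/
lemma exists_div_of_two_tight [IsAlgClosed k] (hK : IsFunctionField k K) (hD : D.deg = d)
    (hV : V ≤ L D) (hVr : finrank k ↥V = r + 1) {P Q : Place k K} (hPQ : P ≠ Q)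
    (o : Orders d r D V P) (o' : Orders d r D V Q) {i j : Fin (r + 1)} (hij : i < j)
    (hi : o.m i + o'.m i.rev = d) (hj : o.m j + o'.m j.rev = d) :
    ∃ m : ℕ, 1 ≤ m ∧ m ≤ d ∧ ∃ h : K, h ≠ 0 ∧
      FunFld.div k h = Finsupp.single Q (m : ℤ) - Finsupp.single P (m : ℤ) := by
  classical
  obtain ⟨f, hf, hf0, hfo, hfs⟩ := exists_mem_of_tight hK (deg_eq_one hK P) (deg_eq_one hK Q) hPQ
    hD hV hVr o o' i hi
  obtain ⟨g, hg, hg0, hgo, hgs⟩ := exists_mem_of_tight hK (deg_eq_one hK P) (deg_eq_one hK Q) hPQ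
    hD hV hVr o o' j hj
  have hlt := o.strictMono hij
  have := o.le j
  refine ⟨o.m j - o.m i, by omega, by omega, f * g⁻¹, mul_ne_zero hf0 (inv_ne_zero hg0), ?_⟩
  set E : Divisor k K := FunFld.div k (f * g⁻¹) -
    (Finsupp.single Q ((o.m j - o.m i : ℕ) : ℤ) - Finsupp.single P ((o.m j - o.m i : ℕ) : ℤ)) with hE
  have hval : ∀ R : Place k K, R ≠ Q → E R = 0 := fun R hRQ => by
    rw [hE, Finsupp.sub_apply, Finsupp.sub_apply, FFLib.div_mul hK.1 hf0 (inv_ne_zero hg0), div_inv hK,
      Finsupp.add_apply, Finsupp.neg_apply, div_apply hK, div_apply hK,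
      Finsupp.single_eq_of_ne hRQ]
    rcases eq_or_ne R P with rfl | hRP
    · rw [Finsupp.single_eq_same]; omega
    · have h1 := hfs R hRP hRQ
      have h2 := hgs R hRP hRQ
      rw [Finsupp.add_apply, div_apply hK] at h1 h2
      rw [Finsupp.single_eq_of_ne hRP]
      omega
  have hEs : E = Finsupp.single Q (E Q) := Finsupp.ext fun R => by
    rcases eq_or_ne R Q with rfl | hR
    · rw [Finsupp.single_eq_same]
    · rw [Finsupp.single_eq_of_ne hR, hval R hR]
  have hdeg : E.deg = 0 := by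
    rw [hE, deg_sub, deg_div hK, deg_sub, deg_single, deg_single, deg_eq_one hK, deg_eq_one hK]
    simp
  rw [hEs, deg_single, deg_eq_one hK, Nat.cast_one, mul_one] at hdeg
  rw [← sub_eq_zero, ← hE, hEs, hdeg, Finsupp.single_zero]

/-! ## Chains -/

/-- Bookkeeping along a chain, left to right. -/
lemma chain_ge {N : ℕ} {M r S : ℕ} (wA wB : Fin (N + 1) → ℕ) (T : Finset (Fin (N + 1)))
    (hadd : ∀ l : Fin N, wB l.castSucc + wA l.succ = M)
    (hpair : ∀ i : Fin (N + 1), 0 < (i : ℕ) → (i : ℕ) < N →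
      wA i + wB i + (if i ∈ T then r else 0) ≤ M)
    (h0 : 0 < N → wB 0 + S + (if (0 : Fin (N + 1)) ∈ T then r else 0) ≤ M)
    (i : Fin (N + 1)) (hi : 0 < (i : ℕ)) :
    S + r * (T.filter fun j => j < i).card ≤ wA i := by
  classical
  induction i using Fin.induction with
  | zero => exact absurd hi (lt_irrefl 0)
  | succ l ih =>
    have hcard : (T.filter fun j => j < l.succ).card =
        (T.filter fun j => j < l.castSucc).card + if l.castSucc ∈ T then 1 else 0 := by
      have e : (T.filter fun j => j < l.succ) =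
          (T.filter fun j => j < l.castSucc) ∪ T.filter fun j => j = l.castSucc := by
        ext j
        simp only [Finset.mem_filter, Finset.mem_union, Fin.lt_def, Fin.val_succ, Fin.ext_iff,
          Fin.val_castSucc]
        constructor
        · rintro ⟨a, b⟩
          rcases Nat.lt_or_ge (j : ℕ) l with h | h
          exacts [.inl ⟨a, h⟩, .inr ⟨a, by omega⟩]
        · rintro (⟨a, b⟩ | ⟨a, b⟩) <;> exact ⟨a, by omega⟩
      rw [e, Finset.card_union_of_disjoint, Finset.filter_eq']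
      · split_ifs <;> simp
      · rw [Finset.disjoint_filter]
        intro j _ h1 h2
        rw [h2] at h1
        exact lt_irrefl _ h1
    have hl := hadd l
    rw [hcard]
    rcases Nat.eq_zero_or_pos (l : ℕ) with h | h
    · have hl0 : l.castSucc = 0 := Fin.ext h
      have h00 := h0 (by have := l.2; omega)
      have hemp : (T.filter fun j => j < l.castSucc).card = 0 := by
        rw [Finset.card_eq_zero, Finset.filter_eq_empty_iff]
        intro j _ hj
        rw [hl0] at hj
        exact Nat.not_lt_zero _ (Fin.lt_def.1 hj)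
      rw [hemp, hl0]
      rw [hl0] at hl
      split_ifs at h00 ⊢ with hT <;> simp <;> omega
    · have h1 := ih h
      have h2 := hpair l.castSucc h l.2
      split_ifs at h2 ⊢ with hT <;> simp [mul_add] <;> omega

lemma chain_ge_rev {N : ℕ} {M r S : ℕ} (wA wB : Fin (N + 1) → ℕ) (T : Finset (Fin (N + 1)))
    (hadd : ∀ l : Fin N, wB l.castSucc + wA l.succ = M)
    (hpair : ∀ i : Fin (N + 1), 0 < (i : ℕ) → (i : ℕ) < N →
      wA i + wB i + (if i ∈ T then r else 0) ≤ M)
    (hN : 0 < N → wA (Fin.last N) + S + (if Fin.last N ∈ T then r else 0) ≤ M)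
    (i : Fin (N + 1)) (hi : (i : ℕ) < N) :
    S + r * (T.filter fun j => i < j).card ≤ wB i := by
  classical
  have h := chain_ge (fun j => wB j.rev) (fun j => wA j.rev) (T.map Fin.revPerm.toEmbedding)
    (M := M) (r := r) (S := S) (fun l => ?_) (fun j hj0 hjN => ?_) (fun h0 => ?_) i.rev
    (by rw [Fin.val_rev]; omega)
  · simp only [Fin.rev_rev, Finset.filter_map, Finset.card_map] at h
    convert h using 4
    ext j
    simp [Fin.rev_lt_rev]
  · show wA l.castSucc.rev + wB l.succ.rev = M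
    rw [Fin.rev_castSucc, Fin.rev_succ, add_comm]
    exact hadd l.rev
  · have hmem : j ∈ T.map Fin.revPerm.toEmbedding ↔ j.rev ∈ T := by
      rw [Finset.mem_map_equiv]; simp
    have := hpair j.rev (by rw [Fin.val_rev]; omega) (by rw [Fin.val_rev]; omega)
    simp only [hmem]
    omega
  · have hmem : (0 : Fin (N + 1)) ∈ T.map Fin.revPerm.toEmbedding ↔ Fin.last N ∈ T := by
      rw [Finset.mem_map_equiv]; simp [Fin.rev_zero]
    simp only [hmem, Fin.rev_zero]
    exact hN h0

section Backbone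

variable [IsAlgClosed k] [CharZero k] {N : ℕ} {Z : Fin (N + 1) → Type*} [∀ i, Field (Z i)]
  [∀ i, Algebra k (Z i)] (hZ : ∀ i, IsFunctionField k (Z i))
  {DD : ∀ i, Divisor k (Z i)} (hDd : ∀ i, (DD i).deg = d)
  {VV : ∀ i, Submodule k (Z i)} (hVV : ∀ i, VV i ≤ L (DD i))
  (hVVr : ∀ i, finrank k ↥(VV i) = r + 1) (A B : ∀ i, Place k (Z i))
  (hAB : ∀ i : Fin (N + 1), 0 < (i : ℕ) → (i : ℕ) < N → A i ≠ B i)
  (hcomp : ∀ (l : Fin N) (m : ℕ), m ≤ d + 1 →
    dimV (DD l.castSucc) (VV l.castSucc) (B l.castSucc) (m : ℤ) +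
      dimV (DD l.succ) (VV l.succ) (A l.succ) ((d : ℤ) + 1 - m) = r + 1)
  (hrat : ∀ i, genus k (Z i) = 0)
  {T : Finset (Fin (N + 1))} {Q : ∀ i, Place k (Z i)}
  (hQA : ∀ i ∈ T, 0 < (i : ℕ) → Q i ≠ A i) (hQB : ∀ i ∈ T, (i : ℕ) < N → Q i ≠ B i)
  (hcusp : ∀ i ∈ T, r ≤ dimV (DD i) (VV i) (Q i) 2)

include hZ hDd hVV hVVr hAB hrat hQA hQB hcusp in
lemma backbone_pair (i : Fin (N + 1)) (h0 : 0 < (i : ℕ)) (hN : (i : ℕ) < N) :
    wsum d (DD i) (VV i) (A i) + wsum d (DD i) (VV i) (B i) + (if i ∈ T then r else 0) ≤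
      (r + 1) * d := by
  classical
  split_ifs with hT
  · have h := plucker (hZ i) (hrat i) (hDd i) (hVV i) (hVVr i) {A i, B i, Q i}
    have hc : ({A i, B i, Q i} : Finset (Place k (Z i))).card = 3 := by
      rw [Finset.card_insert_of_notMem (by simp [hAB i h0 hN, (hQA i hT h0).symm]),
        Finset.card_pair (hQB i hT hN).symm]
    rw [hc, Finset.sum_insert (by simp [hAB i h0 hN, (hQA i hT h0).symm]),
      Finset.sum_pair (hQB i hT hN).symm] at h
    obtain ⟨o⟩ := exists_orders (hZ i) (deg_eq_one (hZ i) (Q i)) (hDd i) (hVV i) (hVVr i)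
    have := o.tri_add_le_of_cusp (hcusp i hT)
    omega
  · have := wsum_add_le (hZ i) (deg_eq_one (hZ i) (A i)) (deg_eq_one (hZ i) (B i)) (hAB i h0 hN)
      (hDd i) (hVV i) (hVVr i)
    omega

include hZ hDd hVV hVVr hcusp in
lemma backbone_end (i : Fin (N + 1)) (P : Place k (Z i)) (hP : i ∈ T → Q i ≠ P) :
    wsum d (DD i) (VV i) P + tri r + (if i ∈ T then r else 0) ≤ (r + 1) * d := by
  classical
  obtain ⟨o⟩ := exists_orders (hZ i) (deg_eq_one (hZ i) P) (hDd i) (hVV i) (hVVr i)
  split_ifs with hT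
  · have h := wsum_add_le (hZ i) (deg_eq_one (hZ i) P) (deg_eq_one (hZ i) (Q i)) (hP hT).symm
      (hDd i) (hVV i) (hVVr i)
    obtain ⟨o'⟩ := exists_orders (hZ i) (deg_eq_one (hZ i) (Q i)) (hDd i) (hVV i) (hVVr i)
    have := o'.tri_add_le_of_cusp (hcusp i hT)
    omega
  · have := o.wsum_add_tri_le
    omega

include hZ hDd hVV hVVr hAB hcomp hrat hQA hQB hcusp in
lemma backbone_A (i : Fin (N + 1)) (hi : 0 < (i : ℕ)) :
    tri r + r * (T.filter fun j => j < i).card ≤ wsum d (DD i) (VV i) (A i) :=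
  chain_ge (fun i => wsum d (DD i) (VV i) (A i)) (fun i => wsum d (DD i) (VV i) (B i)) T
    (fun l => wsum_compat (hcomp l))
    (fun i a b => backbone_pair hZ hDd hVV hVVr A B hAB hrat hQA hQB hcusp i a b)
    (fun h => backbone_end hZ hDd hVV hVVr hcusp 0 (B 0) fun h0 => hQB 0 h0 h) i hi

include hZ hDd hVV hVVr hAB hcomp hrat hQA hQB hcusp in
lemma backbone_B (i : Fin (N + 1)) (hi : (i : ℕ) < N) :
    tri r + r * (T.filter fun j => i < j).card ≤ wsum d (DD i) (VV i) (B i) :=
  chain_ge_rev (fun i => wsum d (DD i) (VV i) (A i)) (fun i => wsum d (DD i) (VV i) (B i)) T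
    (fun l => wsum_compat (hcomp l))
    (fun i a b => backbone_pair hZ hDd hVV hVVr A B hAB hrat hQA hQB hcusp i a b)
    (fun h => backbone_end hZ hDd hVV hVVr hcusp (Fin.last N) (A _)
      fun h0 => hQA _ h0 h) i hi

lemma card_filter_add_gt (i : Fin (N + 1)) (T : Finset (Fin (N + 1))) :
    (T.filter fun j => j < i).card + (T.filter fun j => i < j).card = (T.erase i).card := by
  classical
  rw [← Finset.card_union_of_disjoint (Finset.disjoint_filter.2 fun j _ a b => lt_asymm a b)]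
  congr 1
  ext j
  simp only [Finset.mem_union, Finset.mem_filter, Finset.mem_erase, ← and_or_left]
  rw [and_comm, lt_or_lt_iff_ne]

end Backbone

end Groth.Agent.LinSer
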