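import Groth.Agent.FFLib.DegOne

/-!
# Vanishing orders of linear series
-/

open WithZero Module

namespace Groth.Agent.LinSer

open FunFld Groth.Agent.FFLib

variable {k K : Type*} [Field k] [Field K] [Algebra k K]

/-- `dim V(-nP)`. -/
noncomputable abbrev dimV (D : Divisor k K) (V : Submodule k K) (P : Place k K) (n : ℤ) : ℕ :=
  finrank k ↥(V ⊓ L (D - Finsupp.single P n))

/-- The weight sum `∑_{n=1}^{d} dim V(-nP)`. -/
noncomputable abbrev wsum (d : ℕ) (D : Divisor k K) (V : Submodule k K) (P : Place k K) : ℕ :=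
  ∑ n ∈ Finset.range d, dimV D V P ((n : ℤ) + 1)

lemma mem_sub_single {D : Divisor k K} {V : Submodule k K} (hV : V ≤ L D) (P : Place k K) (n : ℤ)
    {f : K} (hf : f ∈ V) (hf0 : f ≠ 0) :
    f ∈ L (D - Finsupp.single P n) ↔ n ≤ P.ord f + D P := by
  rw [mem_L_iff hf0]
  constructor
  · intro h
    have := h P
    rw [Finsupp.sub_apply, Finsupp.single_eq_same] at this
    omega
  · intro h Q
    rw [Finsupp.sub_apply]
    rcases eq_or_ne Q P with rfl | hQ
    · rw [Finsupp.single_eq_same]; omega
    · rw [Finsupp.single_eq_of_ne hQ, sub_zero]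
      exact (mem_L_iff hf0).1 (hV hf) Q

/-- The vanishing orders of a linear series at a place of degree one, with an adapted basis. -/
structure Orders (d r : ℕ) (D : Divisor k K) (V : Submodule k K) (P : Place k K) where
  m : Fin (r + 1) → ℕ
  strictMono : StrictMono m
  le : ∀ i, m i ≤ d
  dim : ∀ n : ℤ, dimV D V P n = (Finset.univ.filter fun i => n ≤ (m i : ℤ)).card
  fam : Fin (r + 1) → K
  fam_mem : ∀ i, fam i ∈ V
  fam_ne : ∀ i, fam i ≠ 0
  fam_ord : ∀ i, P.ord (fam i) + D P = (m i : ℤ)
  span_eq : Submodule.span k (Set.range fam) = V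

variable (hK : IsFunctionField k K)
include hK

theorem exists_orders {P : Place k K} (hP : P.deg = 1) {d r : ℕ} {D : Divisor k K}
    (hD : D.deg = d) {V : Submodule k K} (hV : V ≤ L D) (hVr : finrank k ↥V = r + 1) :
    Nonempty (Orders d r D V P) := by
  classical
  have := finiteDimensional_L hK D
  have hfd : FiniteDimensional k ↥V := Submodule.finiteDimensional_of_le hV
  obtain ⟨S, hS, hSc⟩ := exists_ord_finset hP V
  let e : Fin (r + 1) ↪o ℤ := S.orderEmbOfFin (hSc.trans hVr)
  have hex : ∀ i, ∃ f ∈ V, f ≠ 0 ∧ P.ord f = e i := fun i =>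
    (hS _).1 (S.orderEmbOfFin_mem _ i)
  choose f hfV hf0 hfo using hex
  have hb : ∀ i, 0 ≤ e i + D P ∧ e i + D P ≤ d := by
    intro i
    refine ⟨?_, ?_⟩
    · have := (mem_L_iff (hf0 i)).1 (hV (hfV i)) P
      rw [hfo] at this
      exact this
    · by_contra hlt
      have hm : f i ∈ L (D - Finsupp.single P ((d : ℤ) + 1)) :=
        (mem_sub_single hV P _ (hfV i) (hf0 i)).2 (by rw [hfo]; omega)
      rw [L_eq_bot_of_deg_neg hK (by rw [deg_sub, deg_single, hD, hP]; omega),
        Submodule.mem_bot] at hm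
      exact hf0 i hm
  have hcast : ∀ i, ((e i + D P).toNat : ℤ) = e i + D P := fun i => Int.toNat_of_nonneg (hb i).1
  have hdim : ∀ n : ℤ, dimV D V P n =
      (Finset.univ.filter fun i => n ≤ ((e i + D P).toNat : ℤ)).card := by
    intro n
    have : FiniteDimensional k ↥(V ⊓ L (D - Finsupp.single P n)) :=
      Submodule.finiteDimensional_of_le inf_le_left
    obtain ⟨S', hS', hS'c⟩ := exists_ord_finset hP (V ⊓ L (D - Finsupp.single P n))
    show finrank k ↥(V ⊓ L (D - Finsupp.single P n)) = _
    rw [← hS'c, ← Finset.card_map e.toEmbedding]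
    congr 1
    ext a
    simp only [Finset.mem_map, Finset.mem_filter, Finset.mem_univ, true_and,
      RelEmbedding.coe_toEmbedding]
    rw [hS']
    constructor
    · rintro ⟨g, ⟨hgV, hgL⟩, hg0, rfl⟩
      have h1 : P.ord g ∈ S := (hS _).2 ⟨g, hgV, hg0, rfl⟩
      obtain ⟨i, hi⟩ : P.ord g ∈ Set.range e := by
        rw [Finset.range_orderEmbOfFin]; exact h1
      refine ⟨i, ?_, hi⟩
      have h2 := (mem_sub_single hV P n hgV hg0).1 hgL
      rw [hcast, hi]
      exact h2
    · rintro ⟨i, hi, rfl⟩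
      rw [hcast] at hi
      exact ⟨f i, ⟨hfV i, (mem_sub_single hV P n (hfV i) (hf0 i)).2 (by rw [hfo]; exact hi)⟩,
        hf0 i, hfo i⟩
  have hli : LinearIndependent k f :=
    linearIndependent_of_ord P f hf0 fun a b h => e.injective (by simpa [hfo] using h)
  refine ⟨⟨fun i => (e i + D P).toNat, fun a b hab => ?_, fun i => ?_, hdim, f, hfV, hf0,
    fun i => by rw [hfo, hcast], ?_⟩⟩
  · have := e.strictMono hab
    have := hb a
    have := hb b
    show (e a + D P).toNat < (e b + D P).toNat
    omega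
  · have := hb i
    show (e i + D P).toNat ≤ d
    omega
  · refine Submodule.eq_of_le_of_finrank_le (Submodule.span_le.2 ?_) ?_
    · rintro _ ⟨i, rfl⟩; exact hfV i
    · rw [finrank_span_eq_card hli, Fintype.card_fin, hVr]

omit hK

variable {d r : ℕ} {D : Divisor k K} {V : Submodule k K} {P : Place k K}

lemma Orders.wsum_eq (o : Orders d r D V P) : wsum d D V P = ∑ i, o.m i := by
  classical
  simp only [wsum, o.dim, Finset.card_eq_sum_ones, Finset.sum_filter]
  rw [Finset.sum_comm]
  refine Finset.sum_congr rfl fun i _ => ?_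
  rw [← Finset.sum_filter, ← Finset.card_eq_sum_ones]
  have h : (Finset.range d).filter (fun n : ℕ => (n : ℤ) + 1 ≤ (o.m i : ℤ)) = Finset.range (o.m i) := by
    ext n
    have := o.le i
    simp only [Finset.mem_filter, Finset.mem_range]
    omega
  rw [h, Finset.card_range]

lemma le_of_strictMono {r : ℕ} {m : Fin (r + 1) → ℕ} (h : StrictMono m) (i : Fin (r + 1)) :
    (i : ℕ) ≤ m i := by
  obtain ⟨i, hi⟩ := i
  induction i with
  | zero => exact Nat.zero_le _
  | succ i ih =>
    have h1 : m ⟨i, by omega⟩ < m ⟨i + 1, hi⟩ := h (Fin.mk_lt_mk.2 (Nat.lt_succ_self i))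
    have h2 : i ≤ m ⟨i, by omega⟩ := ih (by omega)
    show i + 1 ≤ _
    omega

lemma Orders.dim_eq_card_ge (o : Orders d r D V P) (i : Fin (r + 1)) :
    dimV D V P (o.m i) = r + 1 - i := by
  classical
  rw [o.dim]
  have : (Finset.univ.filter fun j => (o.m i : ℤ) ≤ (o.m j : ℤ)) = Finset.Ici i := by
    ext j
    simp [o.strictMono.le_iff_le]
  rw [this, Fin.card_Ici]

lemma Orders.le_iff (o : Orders d r D V P) (n : ℤ) (i : Fin (r + 1)) :
    n ≤ (o.m i : ℤ) ↔ r + 1 - (i : ℕ) ≤ dimV D V P n := by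
  classical
  rw [o.dim]
  constructor
  · intro h
    have hsub : Finset.Ici i ⊆ Finset.univ.filter fun j => n ≤ (o.m j : ℤ) := fun j hj => by
      have := o.strictMono.monotone (Finset.mem_Ici.1 hj)
      simp only [Finset.mem_filter, Finset.mem_univ, true_and]
      omega
    simpa [Fin.card_Ici] using Finset.card_le_card hsub
  · intro h
    by_contra hn
    have hsub : (Finset.univ.filter fun j => n ≤ (o.m j : ℤ)) ⊆ Finset.Ioi i := fun j hj => by
      simp only [Finset.mem_filter, Finset.mem_univ, true_and] at hj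
      rw [Finset.mem_Ioi]
      by_contra hle
      have := o.strictMono.monotone (not_lt.1 hle)
      omega
    have := Finset.card_le_card hsub
    rw [Fin.card_Ioi] at this
    omega

end Groth.Agent.LinSer
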