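import Groth.Agent.LinSer.Orders

/-!
# Two places: complementary vanishing orders, cusps
-/

open WithZero Module

namespace Groth.Agent.LinSer

open FunFld Groth.Agent.FFLib

/-- `0 + 1 + ⋯ + r`. -/
def tri (r : ℕ) : ℕ := ∑ i : Fin (r + 1), (i : ℕ)

lemma two_mul_tri (r : ℕ) : 2 * tri r = r * (r + 1) := by
  rw [tri, Fin.sum_univ_eq_sum_range (fun i => i), mul_comm, Finset.sum_range_id_mul_two,
    Nat.add_sub_cancel, mul_comm]

lemma tri_eq (r : ℕ) : tri r = r * (r + 1) / 2 := by
  have := two_mul_tri r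
  omega

lemma sum_rev {r : ℕ} (f : Fin (r + 1) → ℕ) : ∑ i : Fin (r + 1), f i.rev = ∑ i, f i :=
  Equiv.sum_comp Fin.revPerm f

variable {k K : Type*} [Field k] [Field K] [Algebra k K]
variable {d r : ℕ} {D : Divisor k K} {V : Submodule k K} {P Q : Place k K}

lemma Orders.tri_le_wsum (o : Orders d r D V P) : tri r ≤ wsum d D V P := by
  rw [o.wsum_eq]
  exact Finset.sum_le_sum fun i _ => le_of_strictMono o.strictMono i

lemma Orders.wsum_add_tri_le (o : Orders d r D V P) : wsum d D V P + tri r ≤ (r + 1) * d := by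
  rw [o.wsum_eq, tri, ← sum_rev (fun i => (i : ℕ)), ← Finset.sum_add_distrib]
  calc ∑ i : Fin (r + 1), (o.m i + (i.rev : ℕ))
      ≤ ∑ _i : Fin (r + 1), d := Finset.sum_le_sum fun i _ => ?_
    _ = (r + 1) * d := by simp
  have hsm : StrictMono fun j : Fin (r + 1) => d - o.m j.rev := fun a b hab => by
    have h1 := o.strictMono (Fin.rev_lt_rev.2 hab)
    have h2 := o.le a.rev
    show d - o.m a.rev < d - o.m b.rev
    omega
  have h := le_of_strictMono hsm i.rev
  rw [Fin.rev_rev] at h
  have := o.le i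
  omega

lemma Orders.cusp_iff (o : Orders d r D V Q) :
    r ≤ dimV D V Q 2 ↔ ∀ i, i ≠ 0 → 2 ≤ o.m i := by
  constructor
  · intro h i hi
    have h2 : 1 ≤ (i : ℕ) := Nat.one_le_iff_ne_zero.2 fun e => hi (Fin.ext e)
    have := (o.le_iff 2 i).2 (by omega)
    omega
  · intro h
    rcases Nat.eq_zero_or_pos r with rfl | hr
    · exact Nat.zero_le _
    have h1 : (⟨1, by omega⟩ : Fin (r + 1)) ≠ 0 := fun e => by simpa using congrArg Fin.val e
    have := (o.le_iff 2 ⟨1, by omega⟩).1 (by exact_mod_cast h _ h1)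
    simpa using this

lemma Orders.tri_add_le_of_cusp (o : Orders d r D V Q) (h : r ≤ dimV D V Q 2) :
    tri r + r ≤ wsum d D V Q := by
  classical
  rw [o.wsum_eq, tri]
  have e : r = ∑ i : Fin (r + 1), if i = 0 then 0 else 1 := by
    rw [Finset.sum_ite, Finset.sum_const_zero, zero_add, Finset.sum_const, smul_eq_mul, mul_one,
      Finset.filter_ne', Finset.card_erase_of_mem (Finset.mem_univ _), Finset.card_univ,
      Fintype.card_fin, Nat.add_sub_cancel]
  refine le_trans (le_of_eq (congrArg (fun x => ∑ i : Fin (r + 1), (i : ℕ) + x) e)) ?_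
  show ∑ i : Fin (r + 1), (i : ℕ) + ∑ i : Fin (r + 1), (if i = 0 then 0 else 1) ≤ _
  rw [← Finset.sum_add_distrib]
  refine Finset.sum_le_sum fun i _ => ?_
  split_ifs with hi
  · have := le_of_strictMono o.strictMono i; omega
  · have h2 := (o.cusp_iff.1 h) i hi
    have h1 : 1 ≤ (i : ℕ) := Nat.one_le_iff_ne_zero.2 fun e => hi (Fin.ext e)
    -- orders after the first are at least `i + 1`
    have h3 : ∀ j : Fin (r + 1), j ≠ 0 → (j : ℕ) + 1 ≤ o.m j := by
      intro j
      obtain ⟨j, hj⟩ := j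
      induction j with
      | zero => intro h; exact absurd rfl h
      | succ j ih =>
        intro _
        rcases Nat.eq_zero_or_pos j with rfl | hj0
        · exact (o.cusp_iff.1 h) _ (fun e => by simpa using congrArg Fin.val e)
        have h4 := ih (by omega) (fun e => by
          have := congrArg Fin.val e
          simp at this
          omega)
        have h5 : o.m ⟨j, by omega⟩ < o.m ⟨j + 1, hj⟩ := o.strictMono (Fin.mk_lt_mk.2 (Nat.lt_succ_self j))
        show j + 1 + 1 ≤ _
        have : j + 1 ≤ o.m ⟨j, by omega⟩ := h4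
        omega
    exact h3 i hi

variable (hK : IsFunctionField k K)
include hK

/-- Members vanishing to orders of total more than `d` at two places are zero. -/
lemma dimV_add_le (hP : P.deg = 1) (hQ : Q.deg = 1) (hPQ : P ≠ Q) (hD : D.deg = d)
    (hV : V ≤ L D) {a b : ℤ} (hab : (d : ℤ) < a + b) :
    dimV D V P a + dimV D V Q b ≤ finrank k ↥V := by
  classical
  have := finiteDimensional_L hK D
  have : FiniteDimensional k ↥V := Submodule.finiteDimensional_of_le hV
  have h1 : (V ⊓ L (D - Finsupp.single P a)) ⊓ (V ⊓ L (D - Finsupp.single Q b)) = ⊥ := by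
    rw [eq_bot_iff]
    rintro f ⟨⟨hfV, hfP⟩, -, hfQ⟩
    rw [Submodule.mem_bot]
    by_contra hf0
    have h : f ∈ L (D - Finsupp.single P a - Finsupp.single Q b) := by
      rw [mem_L_iff hf0]
      intro R
      rw [Finsupp.sub_apply, Finsupp.sub_apply]
      rcases eq_or_ne R Q with rfl | hRQ
      · rw [Finsupp.single_eq_same, Finsupp.single_eq_of_ne hPQ.symm]
        have := (mem_L_iff hf0).1 hfQ R
        rw [Finsupp.sub_apply, Finsupp.single_eq_same] at this
        omega
      · rw [Finsupp.single_eq_of_ne hRQ, sub_zero]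
        have := (mem_L_iff hf0).1 hfP R
        rw [Finsupp.sub_apply] at this
        exact this
    rw [L_eq_bot_of_deg_neg hK (by
      rw [deg_sub, deg_sub, deg_single, deg_single, hP, hQ, hD]; omega), Submodule.mem_bot] at h
    exact hf0 h
  have : FiniteDimensional k ↥(V ⊓ L (D - Finsupp.single P a)) :=
    Submodule.finiteDimensional_of_le inf_le_left
  have : FiniteDimensional k ↥(V ⊓ L (D - Finsupp.single Q b)) :=
    Submodule.finiteDimensional_of_le inf_le_left
  have h2 := Submodule.finrank_sup_add_finrank_inf_eq (V ⊓ L (D - Finsupp.single P a))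
    (V ⊓ L (D - Finsupp.single Q b))
  have h3 := Submodule.finrank_mono (sup_le inf_le_left inf_le_left :
    (V ⊓ L (D - Finsupp.single P a)) ⊔ (V ⊓ L (D - Finsupp.single Q b)) ≤ V)
  rw [h1, finrank_bot] at h2
  show finrank k _ + finrank k _ ≤ _
  omega

lemma orders_add_le (hP : P.deg = 1) (hQ : Q.deg = 1) (hPQ : P ≠ Q) (hD : D.deg = d)
    (hV : V ≤ L D) (hVr : finrank k ↥V = r + 1) (o : Orders d r D V P) (o' : Orders d r D V Q)
    (i : Fin (r + 1)) : o.m i + o'.m i.rev ≤ d := by
  by_contra h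
  have h1 := dimV_add_le hK hP hQ hPQ hD hV (a := (o.m i : ℤ)) (b := (o'.m i.rev : ℤ)) (by omega)
  rw [o.dim_eq_card_ge, o'.dim_eq_card_ge, hVr, Fin.val_rev] at h1
  have := i.2
  omega

lemma wsum_add_le (hP : P.deg = 1) (hQ : Q.deg = 1) (hPQ : P ≠ Q) (hD : D.deg = d)
    (hV : V ≤ L D) (hVr : finrank k ↥V = r + 1) :
    wsum d D V P + wsum d D V Q ≤ (r + 1) * d := by
  obtain ⟨o⟩ := exists_orders hK hP hD hV hVr
  obtain ⟨o'⟩ := exists_orders hK hQ hD hV hVr
  rw [o.wsum_eq, o'.wsum_eq, ← sum_rev o'.m, ← Finset.sum_add_distrib]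
  calc ∑ i : Fin (r + 1), (o.m i + o'.m i.rev)
      ≤ ∑ _i : Fin (r + 1), d :=
        Finset.sum_le_sum fun i _ => orders_add_le hK hP hQ hPQ hD hV hVr o o' i
    _ = (r + 1) * d := by simp

/-- A complementary pair of vanishing orders gives a member with divisor supported at the two
places. -/
lemma exists_mem_of_tight (hP : P.deg = 1) (hQ : Q.deg = 1) (hPQ : P ≠ Q) (hD : D.deg = d)
    (hV : V ≤ L D) (hVr : finrank k ↥V = r + 1) (o : Orders d r D V P) (o' : Orders d r D V Q)
    (i : Fin (r + 1)) (h : o.m i + o'.m i.rev = d) :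
    ∃ f ∈ V, f ≠ 0 ∧ P.ord f + D P = (o.m i : ℤ) ∧
      ∀ R : Place k K, R ≠ P → R ≠ Q → (FunFld.div k f + D) R = 0 := by
  classical
  have := finiteDimensional_L hK D
  have : FiniteDimensional k ↥V := Submodule.finiteDimensional_of_le hV
  set A := V ⊓ L (D - Finsupp.single P (o.m i : ℤ))
  set B := V ⊓ L (D - Finsupp.single Q (o'.m i.rev : ℤ))
  have : FiniteDimensional k ↥A := Submodule.finiteDimensional_of_le inf_le_left
  have : FiniteDimensional k ↥B := Submodule.finiteDimensional_of_le inf_le_left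
  have hA : finrank k ↥A = r + 1 - i := o.dim_eq_card_ge i
  have hB : finrank k ↥B = r + 1 - (i.rev : ℕ) := o'.dim_eq_card_ge i.rev
  have h2 := Submodule.finrank_sup_add_finrank_inf_eq A B
  have h3 := Submodule.finrank_mono (sup_le inf_le_left inf_le_left : A ⊔ B ≤ V)
  have hne : A ⊓ B ≠ ⊥ := fun e => by
    rw [e, finrank_bot] at h2
    rw [Fin.val_rev] at hB
    have := i.2
    omega
  obtain ⟨f, ⟨⟨hfV, hfP⟩, -, hfQ⟩, hf0⟩ := Submodule.exists_mem_ne_zero_of_ne_bot hne
  set E : Divisor k K := FunFld.div k f + D - Finsupp.single P (o.m i : ℤ) -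
    Finsupp.single Q (o'.m i.rev : ℤ)
  have hE : 0 ≤ E := fun R => by
    simp only [E, Finsupp.zero_apply, Finsupp.sub_apply, Finsupp.add_apply, div_apply hK.1]
    rcases eq_or_ne R Q with rfl | hRQ
    · rw [Finsupp.single_eq_same, Finsupp.single_eq_of_ne hPQ.symm]
      have := (mem_L_iff hf0).1 hfQ R
      rw [Finsupp.sub_apply, Finsupp.single_eq_same] at this
      omega
    · rw [Finsupp.single_eq_of_ne hRQ]
      have := (mem_L_iff hf0).1 hfP R
      rw [Finsupp.sub_apply] at this
      omega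
  have hE0 := eq_zero_of_deg_eq_zero hK hE (by
    simp only [E]
    rw [deg_sub, deg_sub, deg_add, deg_div hK, deg_single, deg_single, hP, hQ, hD]
    omega)
  refine ⟨f, hfV, hf0, ?_, fun R hRP hRQ => ?_⟩
  · have := DFunLike.congr_fun hE0 P
    simp only [E, Finsupp.zero_apply, Finsupp.sub_apply, Finsupp.add_apply, div_apply hK.1,
      Finsupp.single_eq_same, Finsupp.single_eq_of_ne hPQ] at this
    omega
  · have := DFunLike.congr_fun hE0 R
    simp only [E, Finsupp.zero_apply, Finsupp.sub_apply, Finsupp.add_apply, div_apply hK.1,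
      Finsupp.single_eq_of_ne hRP, Finsupp.single_eq_of_ne hRQ] at this
    simp only [Finsupp.add_apply, div_apply hK.1]
    omega

/-- Positive genus forces the next to last order to be at most `d - 2`. -/
lemma le_sub_two_of_genus_pos (hg : 0 < genus k K) (hP : P.deg = 1) (hD : D.deg = d)
    (o : Orders d r D V P) (i : Fin (r + 1)) (hi : (i : ℕ) < r) : o.m i + 2 ≤ d := by
  classical
  by_contra h
  have h1 : 2 ≤ dimV D V P ((d : ℤ) - 1) := by
    have := (o.le_iff ((d : ℤ) - 1) i).1 (by omega)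
    omega
  have h2 : 2 ≤ ell (D - Finsupp.single P ((d : ℤ) - 1)) := by
    have := finiteDimensional_L hK (D - Finsupp.single P ((d : ℤ) - 1))
    exact h1.trans (Submodule.finrank_mono inf_le_right)
  obtain ⟨z, hz, hzD⟩ := exists_effective_of_ell_pos hK (D := D - Finsupp.single P ((d : ℤ) - 1))
    (by omega)
  obtain ⟨R, hR, hRe⟩ := exists_single_of_deg_one hK hzD (by
    rw [deg_add, deg_sub, deg_div hK, deg_single, hP, hD]; push_cast; ring)
  have h3 := ell_add_div hK (D - Finsupp.single P ((d : ℤ) - 1)) hz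
  rw [hRe, ell_single_one hK hg hR] at h3
  omega

omit hK

/-- Compatibility at a node: the orders are complementary. -/
lemma orders_compat {K' : Type*} [Field K'] [Algebra k K'] {D' : Divisor k K'}
    {V' : Submodule k K'} {P' : Place k K'} (o : Orders d r D V P) (o' : Orders d r D' V' P')
    (hcomp : ∀ n : ℕ, n ≤ d + 1 →
      dimV D V P (n : ℤ) + dimV D' V' P' ((d : ℤ) + 1 - n) = r + 1)
    (i : Fin (r + 1)) : o.m i + o'.m i.rev = d := by
  have hrev := Fin.val_rev i
  have hi := i.2
  have hle := o.le i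
  have hle' := o'.le i.rev
  refine le_antisymm ?_ ?_
  · by_contra h
    have h1 := hcomp (o.m i) (by omega)
    have h2 := (o'.le_iff ((d : ℤ) + 1 - (o.m i : ℕ)) i.rev).1 (by omega)
    rw [o.dim_eq_card_ge] at h1
    omega
  · by_contra h
    have h1 := hcomp (d + 1 - o'.m i.rev) (by omega)
    rw [show (d : ℤ) + 1 - ((d + 1 - o'.m i.rev : ℕ) : ℤ) = (o'.m i.rev : ℤ) by omega,
      o'.dim_eq_card_ge] at h1
    by_cases h2 : r + 1 - (i : ℕ) ≤ dimV D V P ((d + 1 - o'.m i.rev : ℕ) : ℤ)
    · have := (o.le_iff _ i).2 h2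
      omega
    · -- `o.m i < d + 1 - o'.m i.rev`, refine by one
      have h3 := hcomp (d - o'.m i.rev) (by omega)
      rw [show (d : ℤ) + 1 - ((d - o'.m i.rev : ℕ) : ℤ) = (o'.m i.rev : ℤ) + 1 by omega] at h3
      have h4 : ¬ r + 1 - (i : ℕ) ≤ dimV D V P ((d - o'.m i.rev : ℕ) : ℤ) := fun h5 => by
        have := (o.le_iff _ i).2 h5
        omega
      have h6 : dimV D' V' P' ((o'.m i.rev : ℤ) + 1) < r + 1 - (i.rev : ℕ) := by
        by_contra h7
        have := (o'.le_iff _ i.rev).2 (not_lt.1 h7)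
        omega
      omega

lemma wsum_compat {K' : Type*} [Field K'] [Algebra k K'] {D' : Divisor k K'}
    {V' : Submodule k K'} {P' : Place k K'}
    (hcomp : ∀ n : ℕ, n ≤ d + 1 →
      dimV D V P (n : ℤ) + dimV D' V' P' ((d : ℤ) + 1 - n) = r + 1) :
    wsum d D V P + wsum d D' V' P' = (r + 1) * d := by
  rw [wsum, wsum, ← Finset.sum_range_reflect (fun n : ℕ => dimV D' V' P' ((n : ℤ) + 1)),
    ← Finset.sum_add_distrib, Finset.sum_congr rfl (g := fun _ => r + 1) fun n hn => ?_]
  · simp [mul_comm]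
  · have := Finset.mem_range.1 hn
    have h := hcomp (n + 1) (by omega)
    push_cast at h
    rw [show ((d - 1 - n : ℕ) : ℤ) + 1 = (d : ℤ) + 1 - ((n : ℤ) + 1) by omega]
    exact h

end Groth.Agent.LinSer
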