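import Mathlib

/-!
# Wronskians of polynomials in characteristic zero
-/

open Polynomial Matrix

namespace Groth.Agent.LinSer

variable {k : Type*} [Field k]

/-- The Wronskian. -/
noncomputable def wr {n : ℕ} (p : Fin n → k[X]) : k[X] :=
  (Matrix.of fun i j : Fin n => derivative^[(j : ℕ)] (p i)).det

lemma coeff_prod_of_le {ι : Type*} (s : Finset ι) (f : ι → k[X]) (e : ι → ℕ)
    (h : ∀ i ∈ s, (f i).natDegree ≤ e i) :
    (∏ i ∈ s, f i).natDegree ≤ ∑ i ∈ s, e i ∧
      (∏ i ∈ s, f i).coeff (∑ i ∈ s, e i) = ∏ i ∈ s, (f i).coeff (e i) := by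
  classical
  induction s using Finset.induction_on with
  | empty => simp
  | @insert a s ha ih =>
    obtain ⟨h1, h2⟩ := ih fun i hi => h i (Finset.mem_insert_of_mem hi)
    have h0 := h a (Finset.mem_insert_self a s)
    rw [Finset.prod_insert ha, Finset.sum_insert ha, Finset.prod_insert ha]
    exact ⟨natDegree_mul_le.trans (add_le_add h0 h1),
      by rw [coeff_mul_add_eq_of_natDegree_le h0 h1, h2]⟩

lemma coeff_det_of_le {n : ℕ} (M : Matrix (Fin n) (Fin n) k[X]) (e : Fin n → ℕ)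
    (h : ∀ i j, (M i j).natDegree ≤ e i) :
    M.det.natDegree ≤ ∑ i, e i ∧
      M.det.coeff (∑ i, e i) = (Matrix.of fun i j => (M i j).coeff (e i)).det := by
  classical
  rw [← Matrix.det_transpose M, Matrix.det_apply']
  have key : ∀ σ : Equiv.Perm (Fin n), (∏ i, M i (σ i)).natDegree ≤ ∑ i, e i ∧
      (∏ i, M i (σ i)).coeff (∑ i, e i) = ∏ i, (M i (σ i)).coeff (e i) :=
    fun σ => coeff_prod_of_le _ _ _ fun i _ => h i (σ i)
  constructor
  · refine natDegree_sum_le_of_forall_le _ _ fun σ _ => ?_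
    simp only [Matrix.transpose_apply]
    refine natDegree_mul_le.trans ?_
    rw [natDegree_intCast, zero_add]
    exact (key σ).1
  · rw [finsetSum_coeff, ← Matrix.det_transpose (Matrix.of _), Matrix.det_apply']
    refine Finset.sum_congr rfl fun σ _ => ?_
    simp only [Matrix.transpose_apply, Matrix.of_apply]
    rw [coeff_intCast_mul, (key σ).2]

lemma pow_dvd_det {n : ℕ} (M : Matrix (Fin n) (Fin n) k[X]) (q : k[X]) (e : Fin n → ℕ)
    (h : ∀ i j, q ^ e i ∣ M i j) : q ^ (∑ i, e i) ∣ M.det := by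
  classical
  rw [← Matrix.det_transpose M, Matrix.det_apply']
  refine Finset.dvd_sum fun σ _ => Dvd.dvd.mul_left ?_ _
  simp only [Matrix.transpose_apply]
  rw [← Finset.prod_pow_eq_pow_sum]
  exact Finset.prod_dvd_prod_of_dvd _ _ fun i _ => h i (σ i)

lemma det_col_mul {n : ℕ} (M : Matrix (Fin n) (Fin n) k[X]) (q : k[X]) :
    (Matrix.of fun i j : Fin n => q ^ (j : ℕ) * M i j).det = q ^ (∑ j : Fin n, (j : ℕ)) * M.det := by
  rw [Matrix.det_mul_row, Finset.prod_pow_eq_pow_sum]

/-- Roots: vanishing orders force vanishing of the Wronskian. -/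
lemma pow_sub_dvd_wr {n : ℕ} (p : Fin n → k[X]) (a : k) (m : Fin n → ℕ)
    (h : ∀ i, (X - C a) ^ m i ∣ p i) :
    (X - C a) ^ (∑ i, m i - ∑ j : Fin n, (j : ℕ)) ∣ wr p := by
  have h1 : ∀ i j : Fin n, (X - C a) ^ m i ∣ (X - C a) ^ (j : ℕ) * derivative^[(j : ℕ)] (p i) := by
    intro i j
    refine dvd_trans (pow_dvd_pow _ (by omega : m i ≤ (j : ℕ) + (m i - j))) ?_
    rw [pow_add]
    exact mul_dvd_mul_left _ (pow_sub_dvd_iterate_derivative_of_pow_dvd _ (h i))
  have h2 := pow_dvd_det (Matrix.of fun i j : Fin n => (X - C a) ^ (j : ℕ) *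
    derivative^[(j : ℕ)] (p i)) _ m h1
  have h3 := det_col_mul (Matrix.of fun i j : Fin n => derivative^[(j : ℕ)] (p i)) (X - C a)
  simp only [Matrix.of_apply] at h3
  rw [h3] at h2
  rcases Nat.le_total (∑ i, m i) (∑ j : Fin n, (j : ℕ)) with hle | hle
  · rw [Nat.sub_eq_zero_of_le hle, pow_zero]; exact one_dvd _
  · rw [show ∑ i, m i = ∑ j : Fin n, (j : ℕ) + (∑ i, m i - ∑ j : Fin n, (j : ℕ)) by omega, pow_add]
      at h2
    exact (mul_dvd_mul_iff_left (pow_ne_zero _ (X_sub_C_ne_zero a))).1 h2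

lemma coeff_X_pow_mul_derivative (p : k[X]) (j m : ℕ) :
    (X ^ j * derivative^[j] p).coeff m = (m.descFactorial j : k) * p.coeff m := by
  rw [coeff_X_pow_mul']
  split_ifs with h
  · rw [coeff_iterate_derivative, Nat.sub_add_cancel h, nsmul_eq_mul]
  · rw [Nat.descFactorial_eq_zero_iff_lt.2 (not_le.1 h), Nat.cast_zero, zero_mul]

/-- Degree and non-vanishing. -/
lemma natDegree_wr {n : ℕ} [CharZero k] (p : Fin n → k[X]) (hp : ∀ i, p i ≠ 0)
    (hinj : Function.Injective fun i => (p i).natDegree) :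
    wr p ≠ 0 ∧ (wr p).natDegree + ∑ j : Fin n, (j : ℕ) ≤ ∑ i, (p i).natDegree := by
  classical
  set N : Fin n → ℕ := fun i => (p i).natDegree
  have h3 := det_col_mul (Matrix.of fun i j : Fin n => derivative^[(j : ℕ)] (p i)) X
  simp only [Matrix.of_apply] at h3
  have hdeg : ∀ i j : Fin n, (X ^ (j : ℕ) * derivative^[(j : ℕ)] (p i)).natDegree ≤ N i := by
    intro i j
    refine natDegree_le_iff_coeff_eq_zero.2 fun m hm => ?_
    rw [coeff_X_pow_mul_derivative, coeff_eq_zero_of_natDegree_lt hm, mul_zero]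
  obtain ⟨h1, h2⟩ := coeff_det_of_le
    (Matrix.of fun i j : Fin n => X ^ (j : ℕ) * derivative^[(j : ℕ)] (p i)) N hdeg
  rw [h3] at h1 h2
  simp only [Matrix.of_apply] at h1 h2
  have hc : (Matrix.of fun i j : Fin n =>
      (X ^ (j : ℕ) * derivative^[(j : ℕ)] (p i)).coeff (N i)).det ≠ 0 := by
    have e : (Matrix.of fun i j : Fin n => (X ^ (j : ℕ) * derivative^[(j : ℕ)] (p i)).coeff (N i)) =
        Matrix.of fun i j : Fin n => (p i).leadingCoeff *
          (Matrix.of fun i j : Fin n => ((N i).descFactorial (j : ℕ) : k)) i j := by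
      ext i j
      simp only [Matrix.of_apply]
      rw [coeff_X_pow_mul_derivative, mul_comm]
      rfl
    rw [e, Matrix.det_mul_column]
    refine mul_ne_zero (Finset.prod_ne_zero_iff.2 fun i _ => leadingCoeff_ne_zero.2 (hp i)) ?_
    have e2 : (Matrix.of fun i j : Fin n => ((N i).descFactorial (j : ℕ) : k)) =
        Matrix.of fun i j : Fin n => (descPochhammer k (j : ℕ)).eval ((N i : k)) := by
      ext i j
      simp only [Matrix.of_apply, descPochhammer_eval_eq_descFactorial]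
    rw [e2, ← Matrix.det_eval_matrixOfPolynomials_eq_det_vandermonde (fun i => (N i : k))
      (fun j => descPochhammer k (j : ℕ)) (fun j => descPochhammer_natDegree _ _)
      (fun j => monic_descPochhammer _ _)]
    exact Matrix.det_vandermonde_ne_zero_iff.2 (Nat.cast_injective.comp hinj)
  have hne : wr p ≠ 0 := fun e => hc (by
    rw [← h2]
    show (X ^ _ * wr p).coeff _ = 0
    rw [e, mul_zero, coeff_zero])
  refine ⟨hne, ?_⟩
  have h4 : (X ^ (∑ j : Fin n, (j : ℕ)) * wr p).natDegree ≤ ∑ i, N i := h1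
  rw [natDegree_mul (pow_ne_zero _ X_ne_zero) hne, natDegree_X_pow, add_comm] at h4
  exact h4

/-- Change of basis. -/
lemma wr_dvd_of_mem_span {n : ℕ} (p q : Fin n → k[X])
    (h : ∀ i, q i ∈ Submodule.span k (Set.range p)) : wr p ∣ wr q := by
  classical
  choose c hc using fun i => (Submodule.mem_span_range_iff_exists_fun k).1 (h i)
  refine ⟨(Matrix.of fun i l => C (c i l)).det, ?_⟩
  rw [wr, wr, mul_comm, ← Matrix.det_mul]
  congr 1
  refine Matrix.ext fun i j => ?_
  simp only [Matrix.mul_apply, Matrix.of_apply]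
  rw [← hc i, iterate_derivative_sum]
  exact Finset.sum_congr rfl fun l _ => by rw [iterate_derivative_smul, smul_eq_C_mul]

lemma sum_rootMultiplicity_le {W : k[X]} (hW : W ≠ 0) {ι : Type*} (s : Finset ι) (a : ι → k)
    (ha : Set.InjOn a s) (e : ι → ℕ) (h : ∀ i ∈ s, (X - C (a i)) ^ e i ∣ W) :
    ∑ i ∈ s, e i ≤ W.natDegree := by
  classical
  have hdvd : (∏ i ∈ s, (X - C (a i)) ^ e i) ∣ W := by
    refine Finset.prod_dvd_of_coprime (fun i hi j hj hij => ?_) h
    exact IsCoprime.pow (isCoprime_X_sub_C_of_isUnit_sub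
      (isUnit_iff_ne_zero.2 (sub_ne_zero.2 fun e => hij (ha hi hj e))))
  have h1 := natDegree_le_of_dvd hdvd hW
  rw [natDegree_prod _ _ fun i _ => pow_ne_zero _ (X_sub_C_ne_zero _)] at h1
  simpa using h1

end Groth.Agent.LinSer
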