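import Groth.Agent.LinSer.Pairs
import Groth.Agent.LinSer.Wronsk

/-!
# Linear series on rational function fields: the Plücker inequality, cusps
-/

open WithZero Module Polynomial

namespace Groth.Agent.LinSer

open FunFld Groth.Agent.FFLib

variable {k K : Type*} [Field k] [Field K] [Algebra k K]

lemma v_const_sub {P : Place k K} {x : K} {a b : k} (h : P.1 (x - algebraMap k K a) < 1)
    (hab : b ≠ a) : P.1 (x - algebraMap k K b) = 1 := by
  rw [show x - algebraMap k K b = algebraMap k K (a - b) + (x - algebraMap k K a) by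
    rw [map_sub]; ring, P.1.map_add_eq_of_lt_left, v_const P (sub_ne_zero.2 hab.symm)]
  rw [v_const P (sub_ne_zero.2 hab.symm)]
  exact h

/-- The value of a polynomial at a finite point. -/
lemma v_aeval_eq_one {P : Place k K} {t : K} {a : k} (h : P.1 (t - algebraMap k K a) < 1)
    {q : k[X]} (hq : q.eval a ≠ 0) : P.1 (aeval t q) = 1 := by
  obtain ⟨r, hr⟩ := (X_sub_C_dvd_sub_C_eval (p := q) (a := a))
  have ht : P.1 t ≤ 1 := v_le_of_sub h.le (P.2.1 a)
  rw [show q = C (q.eval a) + (X - C a) * r by rw [← hr]; ring, map_add, map_mul, aeval_C, map_sub,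
    aeval_X, aeval_C, P.1.map_add_eq_of_lt_left, v_const P hq]
  rw [v_const P hq, map_mul]
  exact mul_lt_one_of_lt_of_le h (v_aeval_le P.1 P.2.1 ht r)

variable (hK : IsFunctionField k K)
include hK

lemma exists_place_notMem [IsAlgClosed k] (s : Finset (Place k K)) : ∃ R : Place k K, R ∉ s := by
  obtain ⟨x, hx⟩ := exists_transcendental hK
  have hz : ∀ c : k, ∃ P : Place k K, P.1 (x - algebraMap k K c) < 1 := fun c => by
    have hn : x - algebraMap k K c ∉ Set.range (algebraMap k K) := by
      rintro ⟨d, hd⟩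
      have : algebraMap k K (d + c) = x := by rw [map_add, hd, sub_add_cancel]
      exact hx (this ▸ isAlgebraic_algebraMap (d + c))
    obtain ⟨P, hP⟩ := exists_zero hK hn
    exact ⟨P, (v_lt_one_iff P (fun e => hn ⟨0, by rw [e, map_zero]⟩)).2 hP⟩
  choose g hg using hz
  have hinj : Function.Injective g := fun a b e => by
    by_contra hab
    have h1 := hg b
    rw [← e, v_const_sub (hg a) (Ne.symm hab)] at h1
    exact lt_irrefl _ h1
  obtain ⟨R, -, hR⟩ := (Set.infinite_range_of_injective hinj).exists_notMem_finset s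
  exact ⟨R, hR⟩

lemma exists_coordinate [IsAlgClosed k] (hg : genus k K = 0) (R : Place k K) :
    ∃ t : K, pole (k := k) t = Finsupp.single R 1 := by
  have hR := deg_eq_one hK R
  have h1 := riemann_ge hK (Finsupp.single R 1 : Divisor k K)
  rw [deg_single, hR, hg] at h1
  have := finiteDimensional_L hK (0 : Divisor k K)
  have := finiteDimensional_L hK (Finsupp.single R 1 : Divisor k K)
  obtain ⟨t, ht, htn⟩ : ∃ t ∈ L (Finsupp.single R 1 : Divisor k K), t ∉ L (0 : Divisor k K) := by
    by_contra hh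
    push Not at hh
    have h2 := Submodule.finrank_mono (show L (Finsupp.single R 1 : Divisor k K) ≤ L 0 from hh)
    have h3 := ell_zero hK
    unfold ell at h1 h3
    omega
  have ht0 : t ≠ 0 := fun e => htn (e ▸ Submodule.zero_mem _)
  refine ⟨t, Finsupp.ext fun Q => ?_⟩
  rw [pole_apply hK]
  have hQ := (mem_L_iff ht0).1 ht Q
  rcases eq_or_ne Q R with rfl | hne
  · rw [Finsupp.single_eq_same] at hQ ⊢
    have : Q.ord t < 0 := by
      by_contra hh
      push Not at hh
      refine htn ((mem_L_iff ht0).2 fun S => ?_)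
      rcases eq_or_ne S Q with rfl | hS
      · simpa using hh
      · simpa [Finsupp.single_eq_of_ne hS] using (mem_L_iff ht0).1 ht S
    omega
  · rw [Finsupp.single_eq_of_ne hne] at hQ ⊢
    omega

lemma coordinate_facts {t : K} {R : Place k K} (ht : pole (k := k) t = Finsupp.single R 1) :
    t ≠ 0 ∧ R.ord t = -1 ∧ Transcendental k t ∧ ∀ P : Place k K, P ≠ R → 0 ≤ P.ord t := by
  have hR : R.ord t = -1 := by
    have := DFunLike.congr_fun ht R
    rw [pole_apply hK, Finsupp.single_eq_same] at this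
    omega
  refine ⟨fun e => by rw [e, ord_zero] at hR; omega, hR,
    transcendental_of_ord hK R (by omega), fun P hP => ?_⟩
  have := DFunLike.congr_fun ht P
  rw [pole_apply hK, Finsupp.single_eq_of_ne hP] at this
  omega

/-- Finite points of a coordinate. -/
lemma exists_value [IsAlgClosed k] {t : K} {R : Place k K}
    (ht : pole (k := k) t = Finsupp.single R 1) {P : Place k K} (hP : P ≠ R) :
    ∃ a : k, P.1 (t - algebraMap k K a) < 1 ∧ P.ord (t - algebraMap k K a) = 1 ∧
      ∀ Q : Place k K, Q.1 (t - algebraMap k K a) < 1 → Q = P := by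
  classical
  obtain ⟨h0, hR, htr, hle⟩ := coordinate_facts hK ht
  obtain ⟨a, ha⟩ := exists_const_sub_lt (deg_eq_one hK P) ((v_le_one_iff P t).2 (hle P hP))
  set u := t - algebraMap k K a with hu
  have hu0 : u ≠ 0 := fun e => htr (by
    rw [hu, sub_eq_zero] at e; rw [e]; exact isAlgebraic_algebraMap a)
  have hpos : 0 < P.ord u := (v_lt_one_iff P hu0).1 ha
  have htru : Transcendental k u := transcendental_of_ord hK P (by omega)
  have hpole : pole (k := k) u = Finsupp.single R 1 := by
    ext S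
    rw [← ht, pole_apply hK, pole_apply hK]
    by_cases hS : 0 ≤ S.ord t
    · have : S.1 u ≤ 1 :=
        (S.1.map_sub _ _).trans (max_le ((v_le_one_iff S t).2 hS) (S.2.1 a))
      rw [v_le_one_iff] at this
      omega
    · have h1 : 1 < S.1 t := (one_lt_v_iff S t).2 (by omega)
      have h2 : S.1 u = S.1 t := S.1.map_sub_eq_of_lt_left ((S.2.1 a).trans_lt h1)
      have : S.ord u = S.ord t := by rw [Place.ord, Place.ord, h2]
      rw [this]
  have hdeg := deg_pole hK htru
  rw [hpole, deg_single, one_mul, deg_eq_one hK R] at hdeg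
  have key : ∀ s : Finset (Place k K), (∀ S ∈ s, 0 < S.ord u) → ∑ S ∈ s, S.ord u ≤ 1 := fun s hs => by
    have h1 := sum_ord_mul_deg_le hK htru s hs
    rw [← hdeg] at h1
    simpa [deg_eq_one hK] using h1
  refine ⟨a, ha, ?_, fun Q hQ => ?_⟩
  · have := key {P} (by simpa using hpos)
    rw [Finset.sum_singleton] at this
    show P.ord u = 1
    omega
  · by_contra hne
    have hQpos : 0 < Q.ord u := (v_lt_one_iff Q hu0).1 hQ
    have := key {P, Q} (by simp [hpos, hQpos])
    rw [Finset.sum_pair (Ne.symm hne)] at this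
    omega

lemma ord_aeval_finite [IsAlgClosed k] {t : K} {R : Place k K}
    (ht : pole (k := k) t = Finsupp.single R 1) {P : Place k K} {a : k}
    (ha : P.1 (t - algebraMap k K a) < 1) (ha1 : P.ord (t - algebraMap k K a) = 1)
    {p : k[X]} (hp : p ≠ 0) : P.ord (aeval t p) = p.rootMultiplicity a := by
  obtain ⟨h0, hR, htr, hle⟩ := coordinate_facts hK ht
  obtain ⟨q, hq, hqa⟩ := exists_eq_pow_rootMultiplicity_mul_and_not_dvd p hp a
  have hev : q.eval a ≠ 0 := fun e => hqa (dvd_iff_isRoot.2 e)
  have h1 := v_aeval_eq_one ha hev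
  have hu0 : t - algebraMap k K a ≠ 0 := fun e => by rw [e, ord_zero] at ha1; omega
  have hq0 : aeval t q ≠ 0 := fun e => by rw [e, map_zero] at h1; exact zero_ne_one h1
  conv_lhs => rw [hq]
  rw [map_mul, map_pow, map_sub, aeval_X, aeval_C, ord_mul P (pow_ne_zero _ hu0) hq0, ord_pow, ha1,
    (v_eq_one_iff P hq0).1 h1]
  ring

lemma ord_aeval_infinite {t : K} {R : Place k K} (ht : pole (k := k) t = Finsupp.single R 1)
    {p : k[X]} (hp : p ≠ 0) : R.ord (aeval t p) = -(p.natDegree : ℤ) := by
  classical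
  obtain ⟨h0, hR, htr, hle⟩ := coordinate_facts hK ht
  have hvt : R.1 t = exp 1 := by rw [v_eq R h0, hR, neg_neg]
  have hlc : p.leadingCoeff ≠ 0 := leadingCoeff_ne_zero.2 hp
  have hterm : R.1 (algebraMap k K p.leadingCoeff * t ^ p.natDegree) = exp (p.natDegree : ℤ) := by
    rw [map_mul, v_const R hlc, one_mul, map_pow, hvt, ← exp_nsmul, nsmul_one]
  have h1 : R.1 (aeval t p) = exp (p.natDegree : ℤ) := by
    rw [aeval_eq_sum_range]
    simp only [Algebra.smul_def]
    rw [v_sum_eq R.1 (j := p.natDegree) (Finset.self_mem_range_succ _) fun i hi hne => ?_]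
    · exact hterm
    · refine lt_of_le_of_lt ?_ (lt_of_lt_of_eq (exp_lt_exp.2 (by
        have := Finset.mem_range_succ_iff.1 hi; omega : (i : ℤ) < (p.natDegree : ℤ))) hterm.symm)
      rw [map_mul, map_pow, hvt, ← exp_nsmul, nsmul_one]
      exact mul_le_of_le_one_left' (R.2.1 _)
  rw [Place.ord, h1, log_exp]

lemma L_single_le_range [IsAlgClosed k] (hg : genus k K = 0) {t : K} {R : Place k K}
    (ht : pole (k := k) t = Finsupp.single R 1) (d : ℕ) {g : K}
    (hgL : g ∈ L (Finsupp.single R (d : ℤ) : Divisor k K)) :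
    ∃ p : k[X], p.natDegree ≤ d ∧ aeval t p = g := by
  classical
  obtain ⟨h0, hR, htr, hle⟩ := coordinate_facts hK ht
  have := finiteDimensional_L hK (Finsupp.single R (d : ℤ) : Divisor k K)
  let w : Fin (d + 1) → K := fun j => t ^ (j : ℕ)
  have hw : ∀ j, w j ∈ L (Finsupp.single R (d : ℤ) : Divisor k K) := fun j => by
    rw [mem_L_iff (pow_ne_zero _ h0)]
    intro Q
    rw [ord_pow]
    rcases eq_or_ne Q R with rfl | hQ
    · rw [Finsupp.single_eq_same, hR]
      have := j.2
      omega
    · rw [Finsupp.single_eq_of_ne hQ, add_zero]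
      exact mul_nonneg (Int.natCast_nonneg _) (hle Q hQ)
  have hli : LinearIndependent k w := linearIndependent_of_ord R w (fun j => pow_ne_zero _ h0)
    fun a b e => by
      simp only [w, ord_pow, hR] at e
      exact Fin.ext (by omega)
  have hspan : Submodule.span k (Set.range w) = L (Finsupp.single R (d : ℤ) : Divisor k K) := by
    refine Submodule.eq_of_le_of_finrank_le (Submodule.span_le.2 ?_) ?_
    · rintro _ ⟨j, rfl⟩; exact hw j
    · rw [finrank_span_eq_card hli, Fintype.card_fin]
      have h2 := ell_eq_of_deg_ge hK (D := (Finsupp.single R (d : ℤ) : Divisor k K))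
        (by rw [deg_single, deg_eq_one hK R, hg]; push_cast; omega)
      rw [deg_single, deg_eq_one hK R, hg] at h2
      unfold ell at h2
      omega
  rw [← hspan, Submodule.mem_span_range_iff_exists_fun] at hgL
  obtain ⟨c, hc⟩ := hgL
  refine ⟨∑ j : Fin (d + 1), monomial (j : ℕ) (c j), ?_, ?_⟩
  · exact natDegree_sum_le_of_forall_le _ _ fun j _ =>
      (natDegree_monomial_le _).trans (Nat.lt_succ_iff.1 j.2)
  · rw [map_sum, ← hc]
    exact Finset.sum_congr rfl fun j _ => by rw [aeval_monomial, Algebra.smul_def]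

/-- **Plücker inequality** on a rational function field in characteristic zero. -/
theorem plucker [IsAlgClosed k] [CharZero k] (hg : genus k K = 0) {d r : ℕ} {D : Divisor k K}
    (hD : D.deg = d) {V : Submodule k K} (hV : V ≤ L D) (hVr : finrank k ↥V = r + 1)
    (s : Finset (Place k K)) :
    ∑ P ∈ s, wsum d D V P + 2 * tri r ≤ (r + 1) * d + s.card * tri r := by
  classical
  obtain ⟨R, hR⟩ := exists_place_notMem hK s
  obtain ⟨t, ht⟩ := exists_coordinate hK hg R
  obtain ⟨h0, hRt, htr, hle⟩ := coordinate_facts hK ht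
  have hinjt : Function.Injective (aeval t : k[X] →ₐ[k] K) := transcendental_iff_injective.1 htr
  set D' : Divisor k K := D - Finsupp.single R (d : ℤ) with hD'
  have hD'deg : D'.deg = 0 := by rw [hD', deg_sub, deg_single, deg_eq_one hK R, hD]; simp
  have hl : 0 < ell D' := by
    have := riemann_ge hK D'
    rw [hD'deg, hg] at this
    omega
  obtain ⟨h, hh0, hh⟩ := exists_eq_div_of_ell_pos hK hl hD'deg
  have hordh : ∀ S : Place k K, S.ord h = D S - (Finsupp.single R (d : ℤ) : Divisor k K) S := fun S => by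
    rw [← div_apply hK, ← hh, hD', Finsupp.sub_apply]
  have hpoly : ∀ f ∈ V, ∃ p : k[X], p.natDegree ≤ d ∧ aeval t p = h * f := by
    intro f hf
    refine L_single_le_range hK hg ht d ((mul_mem_L_iff hK hh0).2 ?_)
    rw [← hh, hD', add_sub_cancel]
    exact hV hf
  have ho : ∀ P : Place k K, Orders d r D V P := fun P =>
    (exists_orders hK (deg_eq_one hK P) hD hV hVr).some
  choose p hpd hpe using fun (P : Place k K) (i : Fin (r + 1)) => hpoly _ ((ho P).fam_mem i)
  have hp0 : ∀ P i, p P i ≠ 0 := fun P i e => by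
    have := hpe P i
    rw [e, map_zero] at this
    exact mul_ne_zero hh0 ((ho P).fam_ne i) this.symm
  have hordp : ∀ (P S : Place k K) (i : Fin (r + 1)), S.ord (aeval t (p P i)) = S.ord ((ho P).fam i) + S.ord h := fun P S i => by
    rw [hpe, ord_mul S hh0 ((ho P).fam_ne i)]; ring
  -- degrees at infinity
  have hdegp : ∀ i, ((p R i).natDegree : ℤ) = d - (ho R).m i := fun i => by
    have h1 := ord_aeval_infinite hK ht (hp0 R i)
    have h2 := (ho R).fam_ord i
    rw [hordp, hordh, Finsupp.single_eq_same] at h1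
    omega
  obtain ⟨hW, hWdeg⟩ := natDegree_wr (p R) (hp0 R) fun i j e => (ho R).strictMono.injective (by
    have := hdegp i; have := hdegp j; simp only at e; omega)
  -- multiplicities at finite points
  have hval : ∀ P ∈ s, ∃ a : k, P.1 (t - algebraMap k K a) < 1 ∧
      P.ord (t - algebraMap k K a) = 1 ∧ ∀ Q : Place k K, Q.1 (t - algebraMap k K a) < 1 → Q = P :=
    fun P hP => exists_value hK ht fun e => hR (e ▸ hP)
  choose! a ha ha1 hau using hval
  have hainj : Set.InjOn a s := fun P hP Q hQ e => hau Q hQ P (e ▸ ha P hP)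
  have hdvd : ∀ P ∈ s, (X - C (a P)) ^ (wsum d D V P - tri r) ∣ wr (p R) := by
    intro P hP
    refine dvd_trans ?_ (wr_dvd_of_mem_span (p P) (p R) fun i => ?_)
    · rw [(ho P).wsum_eq, tri]
      refine pow_sub_dvd_wr (p P) (a P) (ho P).m fun i => ?_
      rw [← le_rootMultiplicity_iff (hp0 P i)]
      have h1 := ord_aeval_finite hK ht (ha P hP) (ha1 P hP) (hp0 P i)
      have h2 := (ho P).fam_ord i
      rw [hordp, hordh, Finsupp.single_eq_of_ne (fun e => hR (by rw [← e]; exact hP))] at h1
      omega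
    · have hf : (ho R).fam i ∈ Submodule.span k (Set.range (ho P).fam) :=
        (ho P).span_eq.ge ((ho R).fam_mem i)
      rw [Submodule.mem_span_range_iff_exists_fun] at hf
      obtain ⟨c, hc⟩ := hf
      rw [Submodule.mem_span_range_iff_exists_fun]
      refine ⟨c, hinjt ?_⟩
      simp only [map_sum, map_smul, hpe]
      rw [← hc, Finset.mul_sum]
      exact Finset.sum_congr rfl fun j _ => (mul_smul_comm _ _ _).symm
  have h3 := sum_rootMultiplicity_le hW s a hainj _ hdvd
  have h4 : ∑ i, ((p R i).natDegree : ℤ) = ((r + 1) * d : ℕ) - ((wsum d D V R : ℕ) : ℤ) := by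
    rw [(ho R).wsum_eq, Finset.sum_congr rfl fun i _ => hdegp i, Finset.sum_sub_distrib]
    simp
  have h5 := (ho R).tri_le_wsum
  have h6 : ∑ P ∈ s, wsum d D V P ≤ ∑ P ∈ s, (wsum d D V P - tri r) + s.card * tri r := by
    rw [← smul_eq_mul, ← Finset.sum_const, ← Finset.sum_add_distrib]
    exact Finset.sum_le_sum fun P _ => by omega
  have h7 : ((∑ i, (p R i).natDegree : ℕ) : ℤ) = ((r + 1) * d : ℕ) - ((wsum d D V R : ℕ) : ℤ) := by
    rw [← h4]; push_cast; rfl
  have h8 : (∑ j : Fin (r + 1), (j : ℕ)) = tri r := rfl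
  rw [h8] at hWdeg
  omega

/-- On a rational component with a cusp at `Q`, at most one member up to scalars has divisor
supported at two other places. -/
theorem eq_smul_of_cusp [IsAlgClosed k] [CharZero k] (hg0 : genus k K = 0) {d r : ℕ}
    {D : Divisor k K} (hD : D.deg = d) {V : Submodule k K} (hV : V ≤ L D)
    (hVr : finrank k ↥V = r + 1) {Q : Place k K}
    (hcusp : r ≤ dimV D V Q 2) {P P' : Place k K} (hP : P ≠ Q) (hP' : P' ≠ Q)
    {f g : K} (hf : f ∈ V) (hg : g ∈ V) (hf0 : f ≠ 0) (hg' : g ≠ 0)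
    (hfs : ∀ R : Place k K, R ≠ P → R ≠ P' → (FunFld.div k f + D) R = 0)
    (hgs : ∀ R : Place k K, R ≠ P → R ≠ P' → (FunFld.div k g + D) R = 0) :
    ∃ c : k, g = c • f := by
  classical
  set q := g / f with hq
  have hq0 : q ≠ 0 := div_ne_zero hg' hf0
  by_cases hconst : q ∈ Set.range (algebraMap k K)
  · obtain ⟨c, hc⟩ := hconst
    exact ⟨c, by rw [Algebra.smul_def, hc, hq, div_mul_cancel₀ _ hf0]⟩
  exfalso
  have hsupp : ∀ R : Place k K, R ≠ P → R ≠ P' → R.ord q = 0 := fun R h1 h2 => by
    have e1 := hfs R h1 h2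
    have e2 := hgs R h1 h2
    rw [Finsupp.add_apply, div_apply hK] at e1 e2
    rw [hq, div_eq_mul_inv, ord_mul R hg' (inv_ne_zero hf0), ord_inv]
    omega
  have hPP : P ≠ P' := by
    rintro rfl
    obtain ⟨Z, hZ⟩ := exists_zero hK hconst
    obtain ⟨W, hW⟩ := exists_pole hK hconst
    have hZP : Z = P := by
      by_contra h; have := hsupp Z h h; omega
    have hWP : W = P := by
      by_contra h; have := hsupp W h h; omega
    subst hZP hWP
    omega
  -- a coordinate with divisor `P - P'`
  have hdeg0 : (Finsupp.single P 1 - Finsupp.single P' 1 : Divisor k K).deg = 0 := by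
    rw [deg_sub, deg_single, deg_single, deg_eq_one hK, deg_eq_one hK]; simp
  obtain ⟨t, ht0, ht⟩ := exists_eq_div_of_ell_pos hK
    (D := (Finsupp.single P 1 - Finsupp.single P' 1 : Divisor k K)) (by
      have := riemann_ge hK (Finsupp.single P 1 - Finsupp.single P' 1 : Divisor k K)
      rw [hdeg0, hg0] at this
      omega) hdeg0
  have hord : ∀ R : Place k K, R.ord t =
      (Finsupp.single P 1 - Finsupp.single P' 1 : Divisor k K) R := fun R => by
    rw [← div_apply hK, ← ht]
  have hpole : pole (k := k) t = Finsupp.single P' 1 := Finsupp.ext fun R => by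
    rw [pole_apply hK, hord, Finsupp.sub_apply]
    rcases eq_or_ne R P' with rfl | h2
    · simp [Finsupp.single_eq_of_ne hPP.symm]
    · rcases eq_or_ne R P with rfl | h1
      · simp [Finsupp.single_eq_of_ne h2]
      · simp [Finsupp.single_eq_of_ne h1, Finsupp.single_eq_of_ne h2]
  obtain ⟨c₀, hc₀, hc₀1, -⟩ := exists_value hK hpole (P := Q) (Ne.symm hP')
  have hQt : Q.ord t = 0 := by
    rw [hord, Finsupp.sub_apply, Finsupp.single_eq_of_ne (Ne.symm hP),
      Finsupp.single_eq_of_ne (Ne.symm hP')]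
    ring
  have hc₀0 : c₀ ≠ 0 := by
    rintro rfl
    rw [map_zero, sub_zero, v_lt_one_iff Q ht0] at hc₀
    omega
  -- `q = c * t ^ m` with `m ≠ 0`
  set m := P.ord q with hm
  have hqt : ∀ R : Place k K, R.ord (q * t ^ (-m)) = 0 := by
    intro R
    have hval : R.ord (q * t ^ (-m)) = R.ord q + -m * R.ord t := by
      rw [ord_mul R hq0 (zpow_ne_zero _ ht0), ord_zpow]
    rcases eq_or_ne R P with rfl | h1
    · rw [hval, hord, Finsupp.sub_apply, Finsupp.single_eq_same, Finsupp.single_eq_of_ne hPP]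
      omega
    rcases eq_or_ne R P' with rfl | h2
    · have h1' := deg_div hK.1 (q * t ^ (-m))
      have : FunFld.div k (q * t ^ (-m)) = Finsupp.single R (R.ord (q * t ^ (-m))) := by
        ext S
        rw [div_apply hK]
        rcases eq_or_ne S R with rfl | hS
        · rw [Finsupp.single_eq_same]
        rw [Finsupp.single_eq_of_ne hS, ord_mul S hq0 (zpow_ne_zero _ ht0), ord_zpow]
        rcases eq_or_ne S P with rfl | hSP
        · rw [hord, Finsupp.sub_apply, Finsupp.single_eq_same, Finsupp.single_eq_of_ne hS]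
          omega
        · rw [hsupp S hSP hS, hord, Finsupp.sub_apply, Finsupp.single_eq_of_ne hSP,
            Finsupp.single_eq_of_ne hS]
          ring
      rw [this, deg_single, deg_eq_one hK] at h1'
      simpa using h1'
    rw [hval, hsupp R h1 h2, hord, Finsupp.sub_apply, Finsupp.single_eq_of_ne h1,
      Finsupp.single_eq_of_ne h2]
    ring
  obtain ⟨c, hc⟩ : q * t ^ (-m) ∈ Set.range (algebraMap k K) := by
    by_contra hn
    obtain ⟨R, hR⟩ := exists_zero hK hn
    have := hqt R
    omega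
  have hqm : q = algebraMap k K c * t ^ m := by
    rw [hc, mul_assoc, ← zpow_add₀ ht0, neg_add_cancel, zpow_zero, mul_one]
  have hc0 : c ≠ 0 := fun e => hq0 (by rw [hqm, e, map_zero, zero_mul])
  have hm0 : m ≠ 0 := fun e => hconst ⟨c, by rw [hqm, e, zpow_zero, mul_one]⟩
  -- the cusp
  have hQf : Q.ord f + D Q = 0 := by
    have := hfs Q (Ne.symm hP) (Ne.symm hP')
    rwa [Finsupp.add_apply, div_apply hK] at this
  obtain ⟨o⟩ := exists_orders hK (deg_eq_one hK Q) hD hV hVr
  obtain ⟨b, hb⟩ := exists_const_sub_lt (deg_eq_one hK Q) (y := q) (by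
    rw [v_le_one_iff, hsupp Q (Ne.symm hP) (Ne.symm hP')])
  set u := q - algebraMap k K b with hu
  have hu0 : u ≠ 0 := fun e => hconst ⟨b, (sub_eq_zero.1 e).symm⟩
  have hgb : g - b • f = u * f := by rw [hu, hq, Algebra.smul_def, sub_mul, div_mul_cancel₀ _ hf0]
  have hw : g - b • f ∈ V := V.sub_mem hg (V.smul_mem b hf)
  have hwm : g - b • f ∈ V ⊓ L (D - Finsupp.single Q ((1 : ℤ))) := ⟨hw, (mem_sub_single hV Q 1 hw
    (by rw [hgb]; exact mul_ne_zero hu0 hf0)).2 (by
      rw [hgb, ord_mul Q hu0 hf0]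
      have := (v_lt_one_iff Q hu0).1 hb
      omega)⟩
  have h21 : V ⊓ L (D - Finsupp.single Q ((1 : ℤ))) ≤ V ⊓ L (D - Finsupp.single Q ((2 : ℤ))) := by
    have := finiteDimensional_L hK D
    have : FiniteDimensional k ↥V := Submodule.finiteDimensional_of_le hV
    have hle : V ⊓ L (D - Finsupp.single Q ((2 : ℤ))) ≤ V ⊓ L (D - Finsupp.single Q ((1 : ℤ))) :=
      inf_le_inf_left V (L_mono (sub_le_sub_left (Finsupp.single_mono (by norm_num)) D))
    have : FiniteDimensional k ↥(V ⊓ L (D - Finsupp.single Q ((1 : ℤ)))) :=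
      Submodule.finiteDimensional_of_le inf_le_left
    have hc2 : r ≤ finrank k ↥(V ⊓ L (D - Finsupp.single Q ((2 : ℤ)))) := hcusp
    refine (Submodule.eq_of_le_of_finrank_le hle ?_).ge
    by_contra hlt
    have h1 : V ⊓ L (D - Finsupp.single Q ((1 : ℤ))) = V :=
      Submodule.eq_of_le_of_finrank_le inf_le_left (by omega)
    have hfm : f ∈ L (D - Finsupp.single Q ((1 : ℤ))) := (h1.ge hf).2
    have := (mem_sub_single hV Q 1 hf hf0).1 hfm
    omega
  have h2 := (mem_sub_single hV Q 2 hw (by rw [hgb]; exact mul_ne_zero hu0 hf0)).1 (h21 hwm).2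
  rw [hgb, ord_mul Q hu0 hf0] at h2
  -- but `c (t^m - c₀^m)` vanishes to order one at `Q`
  have key : ∀ n : ℕ, n ≠ 0 → t ^ n - algebraMap k K (c₀ ^ n) ≠ 0 ∧
      Q.ord (t ^ n - algebraMap k K (c₀ ^ n)) = 1 := by
    intro n hn
    have hp : (X ^ n - C (c₀ ^ n) : k[X]) ≠ 0 := X_pow_sub_C_ne_zero (Nat.pos_of_ne_zero hn) _
    have hroot : (X ^ n - C (c₀ ^ n) : k[X]).rootMultiplicity c₀ = 1 := by
      have h1 : 0 < (X ^ n - C (c₀ ^ n) : k[X]).rootMultiplicity c₀ :=
        (rootMultiplicity_pos hp).2 (by simp)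
      by_contra hne
      have h3 : (X ^ n - C (c₀ ^ n) : k[X]).derivative.eval c₀ = 0 :=
        isRoot_iterate_derivative_of_lt_rootMultiplicity (n := 1) (by omega)
      rw [derivative_sub, derivative_C, sub_zero, derivative_X_pow, eval_mul, eval_C, eval_pow,
        eval_X, mul_eq_zero] at h3
      rcases h3 with h3 | h3
      exacts [hn (Nat.cast_eq_zero.1 h3), hc₀0 (pow_eq_zero_iff'.1 h3).1]
    have := ord_aeval_finite hK hpole hc₀ hc₀1 hp
    rw [map_sub, map_pow, aeval_X, aeval_C, hroot] at this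
    exact ⟨fun e => by rw [e, ord_zero] at this; omega, by simpa using this⟩
  have hb' : b = c * c₀ ^ m ∧ Q.ord u = 1 := by
    rcases Int.eq_nat_or_neg m with ⟨n, hn | hn⟩
    all_goals
      have hn0 : n ≠ 0 := fun e => hm0 (by rw [hn, e]; simp)
      obtain ⟨hne, h1⟩ := key n hn0
    · have he : q - algebraMap k K (c * c₀ ^ m) =
          algebraMap k K c * (t ^ n - algebraMap k K (c₀ ^ n)) := by
        rw [hqm, hn, zpow_natCast, zpow_natCast, map_mul, mul_sub]
      have h3 : Q.ord (q - algebraMap k K (c * c₀ ^ m)) = 1 := by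
        rw [he, ord_mul Q (by simpa using hc0) hne, ord_const, h1]; norm_num
      have hbe : b = c * c₀ ^ m := by
        by_contra hne'
        have := v_const_sub ((v_lt_one_iff Q (by rw [he]; exact mul_ne_zero (by simpa using hc0) hne)).2
          (by omega) : Q.1 (q - algebraMap k K (c * c₀ ^ m)) < 1) hne'
        rw [this] at hb
        exact lt_irrefl _ hb
      exact ⟨hbe, by rw [hu, hbe, h3]⟩
    · have hcc : algebraMap k K (c₀ ^ n) ≠ 0 := by simp [hc₀0]
      have he : q - algebraMap k K (c * c₀ ^ m) =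
          -(algebraMap k K c * ((t ^ n)⁻¹ * (algebraMap k K (c₀ ^ n))⁻¹) *
            (t ^ n - algebraMap k K (c₀ ^ n))) := by
        rw [hqm, hn, zpow_neg, zpow_natCast, zpow_neg, zpow_natCast, map_mul, map_inv₀]
        field_simp
        ring
      have h3 : Q.ord (q - algebraMap k K (c * c₀ ^ m)) = 1 := by
        rw [he, Place.ord, Valuation.map_neg, ← Place.ord, ord_mul Q (mul_ne_zero (by simpa using hc0)
          (mul_ne_zero (inv_ne_zero (pow_ne_zero _ ht0)) (inv_ne_zero hcc))) hne,
          ord_mul Q (by simpa using hc0) (mul_ne_zero (inv_ne_zero (pow_ne_zero _ ht0)) (inv_ne_zero hcc)),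
          ord_mul Q (inv_ne_zero (pow_ne_zero _ ht0)) (inv_ne_zero hcc), ord_inv, ord_inv, ord_pow,
          ord_const, ord_const, hQt, h1]
        ring
      have hbe : b = c * c₀ ^ m := by
        by_contra hne'
        have hnz : q - algebraMap k K (c * c₀ ^ m) ≠ 0 := fun e => by rw [e, ord_zero] at h3; omega
        have := v_const_sub ((v_lt_one_iff Q hnz).2 (by omega) :
          Q.1 (q - algebraMap k K (c * c₀ ^ m)) < 1) hne'
        rw [this] at hb
        exact lt_irrefl _ hb
      exact ⟨hbe, by rw [hu, hbe, h3]⟩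
  omega

end Groth.Agent.LinSer
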